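import Groth.Prelude.Def_DRing2
import Groth.Prelude.Def_DRing3
import Groth.Prelude.Def_EtGlue
import Groth.Agent.Etalg.GlueBasic
import Groth.Agent.CycA.TorShift
import Groth.Agent.Models.TorVan

/-!
# Vanishing of `Tor_1(R', -)` for a glueing pair

* `subsingleton_tor_one_of_torsion_ker`: `Tor_1^R(R', N) = 0` for a cyclic module `N = R / K` with `K`
  consisting of `f`-power torsion elements;
* `subsingleton_tor_one_quot`: `Tor_1^R(R', M / f^n M) = 0` if `f^n` is a nonzerodivisor on `M`;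
* `subsingleton_tor_one_of_cover`: passage to directed unions;
* `subsingleton_tor_one_coker`: `Tor_1^R(R', Coker(M → M_f)) = 0`.
-/

set_option autoImplicit false
universe u

open TensorProduct

namespace K358.TorGlue

open Groth.Agent.Etalg.GlueBasic Groth.Agent.Models.TorVan

variable {R R' : Type u} [CommRing R] [CommRing R'] [Algebra R R'] {f : R}

/-- Every element of `R' ⊗ T` is `1 ⊗ t` if `T` is `f`-power torsion. -/
theorem exists_tmul_of_torsion (hq : EtGlue.QuotPowBijective R R' f) {T : Type u} [AddCommGroup T]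
    [Module R T] (hT : ∀ t : T, ∃ n : ℕ, f ^ n • t = 0) (z : R' ⊗[R] T) :
    ∃ t : T, z = (1 : R') ⊗ₜ[R] t := by
  induction z with
  | zero => exact ⟨0, by simp⟩
  | tmul a t =>
    obtain ⟨n, hn⟩ := hT t
    obtain ⟨r, s, rfl⟩ := exists_decomp hq n a
    refine ⟨r • t, ?_⟩
    have h1 : (algebraMap R R' f ^ n * s) ⊗ₜ[R] t = (0 : R' ⊗[R] T) := by
      rw [← map_pow, ← Algebra.smul_def, TensorProduct.smul_tmul, hn, TensorProduct.tmul_zero]
    rw [TensorProduct.add_tmul, h1, add_zero, TensorProduct.tmul_smul, TensorProduct.smul_tmul',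
      Algebra.smul_def, mul_one]
  | add x y hx hy =>
    obtain ⟨s, rfl⟩ := hx
    obtain ⟨t, rfl⟩ := hy
    exact ⟨s + t, by rw [TensorProduct.tmul_add]⟩

/-- `Tor_1(R', N) = 0` from the injectivity of `R' ⊗ K → R' ⊗ P`. -/
theorem subsingleton_tor_one_of_injective {K P N : Type u} [AddCommGroup K] [Module R K]
    [AddCommGroup P] [Module R P] [AddCommGroup N] [Module R N] [Module.Projective R P]
    (i : K →ₗ[R] P) (g : P →ₗ[R] N) (hi : Function.Injective i) (h : Function.Exact i g)
    (hg : Function.Surjective g)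
    (hinj : ∀ z : R' ⊗[R] K, i.lTensor R' z = 0 → z = 0) :
    Subsingleton (DRing.Tor R 1 R' N) := by
  obtain ⟨e⟩ := Groth.Agent.CycA.TorShift.shiftR_one i g hi h hg R'
  have : Subsingleton (LinearMap.ker (LinearMap.lTensor R' i)) := by
    rw [Submodule.subsingleton_iff_eq_bot, LinearMap.ker_eq_bot, injective_iff_map_eq_zero]
    exact hinj
  exact e.toEquiv.subsingleton

/-- `Tor_1(R', N) = 0` if `N` is cyclic with `f`-power torsion annihilator. -/
theorem subsingleton_tor_one_of_torsion_ker (h : EtGlue.IsGlueingPair R R' f) {N : Type u}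
    [AddCommGroup N] [Module R N] (g : R →ₗ[R] N) (hg : Function.Surjective g)
    (hk : ∀ r : R, g r = 0 → ∃ n : ℕ, f ^ n * r = 0) :
    Subsingleton (DRing.Tor R 1 R' N) := by
  refine subsingleton_tor_one_of_injective (LinearMap.ker g).subtype g Subtype.val_injective
    (LinearMap.exact_subtype_ker_map g) hg ?_
  intro z hz
  obtain ⟨t, rfl⟩ := exists_tmul_of_torsion h.1 (T := LinearMap.ker g) (fun t => by
    obtain ⟨n, hn⟩ := hk t.1 t.2
    exact ⟨n, Subtype.ext hn⟩) z
  rw [LinearMap.lTensor_tmul] at hz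
  have h1 := congrArg (TensorProduct.rid R R') hz
  rw [TensorProduct.rid_tmul, map_zero, Algebra.smul_def, mul_one] at h1
  obtain ⟨n, hn⟩ := hk t.1 t.2
  have h2 : (t : R) = 0 := torsion_ring_inj h _ n hn h1
  have h3 : t = 0 := Subtype.ext h2
  rw [h3, TensorProduct.tmul_zero]

/-- `Tor_1(R', M / f^n M) = 0` if `f^n` is a nonzerodivisor on `M`. -/
theorem subsingleton_tor_one_quot (h : EtGlue.IsGlueingPair R R' f) {M N : Type u}
    [AddCommGroup M] [Module R M] [AddCommGroup N] [Module R N] (n : ℕ)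
    (hM : ∀ x : M, f ^ n • x = 0 → x = 0)
    (g : M →ₗ[R] N) (hg : Function.Surjective g)
    (hk : ∀ x : M, g x = 0 ↔ ∃ y : M, x = f ^ n • y) :
    Subsingleton (DRing.Tor R 1 R' N) := by
  let p : (M →₀ R) →ₗ[R] M := Finsupp.linearCombination R id
  have hp : Function.Surjective p := Finsupp.linearCombination_id_surjective R M
  let q : (M →₀ R) →ₗ[R] N := g ∘ₗ p
  have hq : Function.Surjective q := hg.comp hp
  have : Module.Projective R (M →₀ R) := inferInstance
  refine subsingleton_tor_one_of_injective (K := LinearMap.ker q) (P := M →₀ R)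
    (LinearMap.ker q).subtype q Subtype.val_injective
    (LinearMap.exact_subtype_ker_map q) hq ?_
  set K := LinearMap.ker q
  -- the multiplication by `f^n` map `F → K`
  let m : (M →₀ R) →ₗ[R] K := LinearMap.codRestrict K (LinearMap.lsmul R (M →₀ R) (f ^ n)) (by
    intro x
    show g (p (f ^ n • x)) = 0
    rw [map_smul, hk]
    exact ⟨_, rfl⟩)
  have hm : ∀ x, (m x : M →₀ R) = f ^ n • x := fun x => rfl
  let j : LinearMap.ker p →ₗ[R] K := Submodule.inclusion (by
    intro x hx
    show g (p x) = 0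
    rw [LinearMap.mem_ker.1 hx, map_zero])
  have hj : ∀ x, (j x : M →₀ R) = x := fun x => rfl
  let s : (LinearMap.ker p × (M →₀ R)) →ₗ[R] K := j.coprod m
  have hs : Function.Surjective s := by
    rintro ⟨x, hx⟩
    obtain ⟨y, hy⟩ := (hk _).1 (show g (p x) = 0 from hx)
    obtain ⟨y', rfl⟩ := hp y
    refine ⟨(⟨x - f ^ n • y', ?_⟩, y'), ?_⟩
    · rw [LinearMap.mem_ker, map_sub, hy, map_smul, sub_self]
    · apply Subtype.ext
      show (x - f ^ n • y') + f ^ n • y' = x
      abel
  have hj' : ∀ z : R' ⊗[R] (LinearMap.ker p), ∃ (k : LinearMap.ker p) (w : R' ⊗[R] (M →₀ R)),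
      j.lTensor R' z = (1 : R') ⊗ₜ[R] (j k) + m.lTensor R' w := by
    intro z
    obtain ⟨k, y, rfl⟩ := exists_decomp_tensor (M := LinearMap.ker p) h.1 n z
    refine ⟨k, (LinearMap.ker p).subtype.lTensor R' y, ?_⟩
    rw [map_add, LinearMap.lTensor_tmul, map_smul]
    congr 1
    have h1 : f ^ n • j = m ∘ₗ (LinearMap.ker p).subtype := by
      ext x : 1
      apply Subtype.ext
      rfl
    rw [← LinearMap.comp_apply, ← LinearMap.lTensor_comp, ← h1, LinearMap.lTensor_smul]
    rfl
  intro z hz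
  obtain ⟨z', rfl⟩ := LinearMap.lTensor_surjective R' hs z
  -- split `z'`
  have hsplit : ∃ (a : R' ⊗[R] (LinearMap.ker p)) (b : R' ⊗[R] (M →₀ R)),
      s.lTensor R' z' = j.lTensor R' a + m.lTensor R' b := by
    refine ⟨(LinearMap.fst R _ _).lTensor R' z', (LinearMap.snd R _ _).lTensor R' z', ?_⟩
    have h1 : s = j ∘ₗ (LinearMap.fst R _ _) + m ∘ₗ (LinearMap.snd R _ _) := by
      ext x <;> simp [s]
    conv_lhs => rw [h1]
    rw [LinearMap.lTensor_add, LinearMap.lTensor_comp, LinearMap.lTensor_comp]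
    rfl
  obtain ⟨a, b, hab⟩ := hsplit
  obtain ⟨k, w, hkw⟩ := hj' a
  have h1 : s.lTensor R' z' = (1 : R') ⊗ₜ[R] (j k) + m.lTensor R' (w + b) := by
    rw [hab, hkw, map_add, add_assoc]
  have hmK : ∀ v : R' ⊗[R] (M →₀ R), K.subtype.lTensor R' (m.lTensor R' v) = f ^ n • v := by
    intro v
    rw [← LinearMap.comp_apply, ← LinearMap.lTensor_comp]
    have h2 : K.subtype ∘ₗ m = f ^ n • LinearMap.id := by
      ext x : 1
      rfl
    rw [h2, LinearMap.lTensor_smul, LinearMap.lTensor_id]
    rfl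
  rw [h1, map_add, LinearMap.lTensor_tmul, hmK] at hz
  have h2 : (1 : R') ⊗ₜ[R] (k : M →₀ R) = f ^ n • (-(w + b)) := by
    rw [smul_neg, ← eq_neg_iff_add_eq_zero.2 hz]
    rfl
  obtain ⟨x, hx⟩ := exists_smul_of_tmul_eq_smul h.1 n _ _ h2
  have hxk : p x = 0 := by
    apply hM
    rw [← map_smul, ← hx]
    exact k.2
  have h3 : j k = m x := Subtype.ext hx
  have h4 : f ^ n • ((1 : R') ⊗ₜ[R] x + (w + b)) = 0 := by
    rw [smul_add, ← TensorProduct.tmul_smul, ← hx, h2, smul_neg]
    abel
  obtain ⟨t, ht, ht'⟩ := torsion_free h M n _ h4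
  rw [h1, h3, ← LinearMap.lTensor_tmul, ← map_add, ← ht', LinearMap.lTensor_tmul]
  have h5 : m t = 0 := Subtype.ext ht
  rw [h5, TensorProduct.tmul_zero]

/-- Passage to directed unions. -/
theorem subsingleton_tor_one_of_cover {A : Type u} [CommRing A] (L N : Type u) [AddCommGroup L]
    [Module A L] [AddCommGroup N] [Module A N] (Q : ℕ → Submodule A N) (hQ : Monotone Q)
    (hsup : ∀ x : N, ∃ n, x ∈ Q n) (h : ∀ n, Subsingleton (DRing.Tor A 1 L (Q n))) :
    Subsingleton (DRing.Tor A 1 L N) := by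
  obtain ⟨F, _, _, _, q, hq⟩ := exists_free_cover (A := A) L
  have hi : Function.Injective (LinearMap.ker q).subtype := Subtype.val_injective
  have hiq : Function.Exact (LinearMap.ker q).subtype q := LinearMap.exact_subtype_ker_map q
  rw [tor_one_iff _ q hi hiq hq N, injective_iff_map_eq_zero]
  intro z hz
  have hex : ∀ z : (LinearMap.ker q) ⊗[A] N, ∃ (n : ℕ) (z' : (LinearMap.ker q) ⊗[A] (Q n)),
      (Q n).subtype.lTensor _ z' = z := by
    intro z
    induction z with
    | zero => exact ⟨0, 0, by simp⟩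
    | tmul a t =>
      obtain ⟨n, hn⟩ := hsup t
      exact ⟨n, a ⊗ₜ ⟨t, hn⟩, by simp⟩
    | add x y hx hy =>
      obtain ⟨n, x', rfl⟩ := hx
      obtain ⟨m, y', rfl⟩ := hy
      refine ⟨max n m, (Submodule.inclusion (hQ (le_max_left n m))).lTensor _ x' +
        (Submodule.inclusion (hQ (le_max_right n m))).lTensor _ y', ?_⟩
      rw [map_add, ← LinearMap.comp_apply, ← LinearMap.comp_apply, ← LinearMap.lTensor_comp,
        ← LinearMap.lTensor_comp, Submodule.subtype_comp_inclusion,
        Submodule.subtype_comp_inclusion]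
  obtain ⟨n, z', rfl⟩ := hex z
  have h1 := (tor_one_iff _ q hi hiq hq (Q n)).1 (h n)
  have h2 : Function.Injective ((Q n).subtype.lTensor F) :=
    Module.Flat.lTensor_preserves_injective_linearMap _ Subtype.val_injective
  have h3 : (LinearMap.ker q).subtype.rTensor (Q n) z' = 0 := by
    apply h2
    rw [tcomm, hz, map_zero]
  have h4 : z' = 0 := h1 (by rw [h3, map_zero])
  rw [h4, map_zero]

/-- `Tor_1(R', Coker(M → M_f)) = 0`. -/
theorem subsingleton_tor_one_coker (h : EtGlue.IsGlueingPair R R' f) (M : Type u)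
    [AddCommGroup M] [Module R M] :
    Subsingleton (DRing.Tor R 1 R'
      (LocalizedModule (Submonoid.powers f) M ⧸
        LinearMap.range (LocalizedModule.mkLinearMap (Submonoid.powers f) M))) := by
  set L := LocalizedModule (Submonoid.powers f) M
  let ι₀ : M →ₗ[R] L := LocalizedModule.mkLinearMap (Submonoid.powers f) M
  let B := LinearMap.range ι₀
  let sc : ℕ → (M →ₗ[R] L) := fun n =>
    { toFun := fun m => IsLocalizedModule.mk' ι₀ m (⟨f ^ n, n, rfl⟩ : Submonoid.powers f)
      map_add' := fun a b => IsLocalizedModule.mk'_add ι₀ a b _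
      map_smul' := fun r a => IsLocalizedModule.mk'_smul ι₀ r a _ }
  have hsc : ∀ n m, f ^ n • sc n m = ι₀ m := by
    intro n m
    exact IsLocalizedModule.mk'_cancel' ι₀ m (⟨f ^ n, n, rfl⟩ : Submonoid.powers f)
  have hinj : ∀ (n : ℕ) (x : L), f ^ n • x = 0 → x = 0 := by
    intro n x hx
    have hu := IsLocalizedModule.map_units (S := Submonoid.powers f) ι₀ ⟨f ^ n, n, rfl⟩
    exact ((Module.End.isUnit_iff _).1 hu).1 (by
      rw [map_zero]; exact hx)
  have hsurj : ∀ x : L, ∃ n m, sc n m = x := by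
    intro x
    obtain ⟨⟨m, ⟨_, n, rfl⟩⟩, h⟩ := IsLocalizedModule.mk'_surjective (Submonoid.powers f) ι₀ x
    exact ⟨n, m, h⟩
  -- the torsion-free quotient of `M` : the image `B` of `M` in `L`
  let g : ℕ → (M →ₗ[R] (L ⧸ B)) := fun n => B.mkQ ∘ₗ sc n
  let Q : ℕ → Submodule R (L ⧸ B) := fun n => LinearMap.range (g n)
  refine subsingleton_tor_one_of_cover R' (L ⧸ B) Q ?_ ?_ ?_
  · refine monotone_nat_of_le_succ fun n => ?_
    rintro _ ⟨m, rfl⟩
    refine ⟨f • m, ?_⟩
    show B.mkQ (sc (n + 1) (f • m)) = B.mkQ (sc n m)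
    congr 1
    have : f ^ (n + 1) • (sc (n + 1) (f • m) - sc n m) = 0 := by
      rw [smul_sub, hsc, pow_succ', mul_smul, hsc, map_smul, sub_self]
    exact sub_eq_zero.1 (hinj _ _ this)
  · intro x
    obtain ⟨y, rfl⟩ := Submodule.Quotient.mk_surjective _ x
    obtain ⟨n, m, rfl⟩ := hsurj y
    exact ⟨n, m, rfl⟩
  · intro n
    -- `B → Q n`, `b ↦ b / f^n`
    have hu : ∀ b : B, ∃! x : L, f ^ n • x = b := by
      rintro ⟨_, m, rfl⟩
      refine ⟨sc n m, hsc n m, fun y hy => ?_⟩
      apply sub_eq_zero.1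
      apply hinj n
      rw [smul_sub, hy, hsc, sub_self]
    choose d hd hd' using hu
    let dl : B →ₗ[R] L :=
      { toFun := d
        map_add' := fun a b => by
          symm
          apply hd'
          show f ^ n • (d a + d b) = ((a + b : B) : L)
          rw [smul_add, hd, hd]; rfl
        map_smul' := fun r a => by
          symm
          apply hd'
          show f ^ n • (r • d a) = ((r • a : B) : L)
          rw [smul_comm, hd]; rfl }
    have hdl : ∀ b : B, f ^ n • dl b = b := hd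
    have hdm : ∀ m : M, dl ⟨ι₀ m, m, rfl⟩ = sc n m := by
      intro m
      apply sub_eq_zero.1
      apply hinj n
      rw [smul_sub, hdl, hsc, sub_self]
    let g' : B →ₗ[R] Q n := LinearMap.codRestrict (Q n) (B.mkQ ∘ₗ dl) (by
      rintro ⟨_, m, rfl⟩
      refine ⟨m, ?_⟩
      show B.mkQ (sc n m) = B.mkQ (dl ⟨ι₀ m, _⟩)
      rw [hdm])
    refine subsingleton_tor_one_quot h (M := B) n ?_ g' ?_ ?_
    · intro x hx
      apply Subtype.ext
      exact hinj n x.1 (congrArg Subtype.val hx)
    · rintro ⟨_, m, rfl⟩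
      refine ⟨⟨ι₀ m, m, rfl⟩, Subtype.ext ?_⟩
      show B.mkQ (dl ⟨ι₀ m, _⟩) = B.mkQ (sc n m)
      rw [hdm]
    · intro x
      have h1 : g' x = 0 ↔ dl x ∈ B := by
        rw [Subtype.ext_iff]
        show B.mkQ (dl x) = 0 ↔ _
        rw [Submodule.mkQ_apply, Submodule.Quotient.mk_eq_zero]
      rw [h1]
      constructor
      · intro hx
        exact ⟨⟨dl x, hx⟩, Subtype.ext (hdl x).symm⟩
      · rintro ⟨y, rfl⟩
        have : dl (f ^ n • y) = y := by
          apply sub_eq_zero.1
          apply hinj n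
          rw [smul_sub, hdl, sub_eq_zero]
          rfl
        rw [this]
        exact y.2

end K358.TorGlue
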